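import Cfsg.Agent.H7.AG1
import Cfsg.Agent.H9.AH0

/-! The seven-dimensional representation of `G₂`: matrices, faithfulness and the trace arguments. -/

set_option autoImplicit false
set_option linter.unusedSectionVars false
set_option linter.unusedSimpArgs false
set_option maxRecDepth 100000

namespace Cfsg.Agent.H7.AG

open Matrix Cfsg.Lie Cfsg.Agent.H8 Cfsg.Agent.H2 Cfsg.Agent.H2.Ree Cfsg.Agent.H9.AH

variable {K : Type*} [Field K]

/-- The second elementary symmetric function of the eigenvalues. -/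
def e2 (M : Matrix (Fin 7) (Fin 7) K) : K := (M 0 0 * M 1 1 - M 0 1 * M 1 0) + (M 0 0 * M 2 2 - M 0 2 * M 2 0) + (M 0 0 * M 3 3 - M 0 3 * M 3 0) + (M 0 0 * M 4 4 - M 0 4 * M 4 0) + (M 0 0 * M 5 5 - M 0 5 * M 5 0) + (M 0 0 * M 6 6 - M 0 6 * M 6 0)
    + (M 1 1 * M 2 2 - M 1 2 * M 2 1) + (M 1 1 * M 3 3 - M 1 3 * M 3 1) + (M 1 1 * M 4 4 - M 1 4 * M 4 1) + (M 1 1 * M 5 5 - M 1 5 * M 5 1) + (M 1 1 * M 6 6 - M 1 6 * M 6 1)
    + (M 2 2 * M 3 3 - M 2 3 * M 3 2) + (M 2 2 * M 4 4 - M 2 4 * M 4 2) + (M 2 2 * M 5 5 - M 2 5 * M 5 2) + (M 2 2 * M 6 6 - M 2 6 * M 6 2)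
    + (M 3 3 * M 4 4 - M 3 4 * M 4 3) + (M 3 3 * M 5 5 - M 3 5 * M 5 3) + (M 3 3 * M 6 6 - M 3 6 * M 6 3)
    + (M 4 4 * M 5 5 - M 4 5 * M 5 4) + (M 4 4 * M 6 6 - M 4 6 * M 6 4)
    + (M 5 5 * M 6 6 - M 5 6 * M 6 5)

theorem e2_comm (M N : Matrix (Fin 7) (Fin 7) K) : e2 (M * N) = e2 (N * M) := by
  simp only [e2, Matrix.mul_apply, Fin.sum_univ_seven]
  ring

/-- The corner minor. -/
def mn (B : Matrix (Fin 7) (Fin 7) K) : K := B 5 0 * B 6 1 - B 5 1 * B 6 0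

theorem e2_poly (B : Matrix (Fin 7) (Fin 7) K) (t : K) :
    e2 (Y 11 t * B) = e2 B + (e2 (Y 11 1 * B) - e2 B + mn B) * t + -mn B * t ^ 2 := by
  rw [eta7 B]
  simp [e2, mn, Y, mul7]
  ring

/-- The corner pairing. -/
def cp (A B : Matrix (Fin 7) (Fin 7) K) : K := A 5 0 * B 5 0 - A 6 0 * B 5 1 - A 5 1 * B 6 0 + A 6 1 * B 6 1

theorem tr_poly (A B : Matrix (Fin 7) (Fin 7) K) (t : K) : (A * (Y 11 t * B * Y 11 (-t))).trace =
    (A * B).trace + ((A * (Y 11 1 * B * Y 11 (-1))).trace - (A * B).trace + cp A B) * t + -cp A B * t ^ 2 := by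
  rw [eta7 A, eta7 B]
  simp only [Y, mul7, mul_zero, zero_mul, add_zero, zero_add, mul_one, one_mul, trace7]
  simp [cp]
  ring

theorem cp_poly (A B : Matrix (Fin 7) (Fin 7) K) (t : K) : cp A (Y 7 t * B * Y 7 (-t)) =
    cp A B + (cp A (Y 7 1 * B * Y 7 (-1)) - cp A B + A 6 0 * B 6 0) * t + -(A 6 0 * B 6 0) * t ^ 2 := by
  rw [eta7 B]
  simp only [Y, mul7, mul_zero, zero_mul, add_zero, zero_add, mul_one, one_mul]
  simp [cp]
  ring

theorem quad_of {c0 c1 c2 τ a b c : K} (h1 : a ≠ b) (h2 : a ≠ c) (h3 : b ≠ c) (ha : c0 + c1 * a + c2 * a ^ 2 = τ)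
    (hb : c0 + c1 * b + c2 * b ^ 2 = τ) (hc : c0 + c1 * c + c2 * c ^ 2 = τ) : c2 = 0 ∧ c1 = 0 ∧ c0 = τ := by
  have e1 : c1 + c2 * (a + b) = 0 := mul_left_cancel₀ (sub_ne_zero.2 h1) (by linear_combination ha - hb)
  have e2 : c1 + c2 * (a + c) = 0 := mul_left_cancel₀ (sub_ne_zero.2 h2) (by linear_combination ha - hc)
  obtain rfl : c2 = 0 := mul_left_cancel₀ (sub_ne_zero.2 h3) (by linear_combination e1 - e2)
  obtain rfl : c1 = 0 := by simpa using e1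
  exact ⟨rfl, rfl, by simpa using ha⟩

theorem exists_notMem [Fintype K] (l : List K) (h : l.length < Fintype.card K) : ∃ u, u ∉ l := by
  classical
  by_contra hn
  push Not at hn
  exact absurd ((Finset.card_le_card fun u _ => List.mem_toFinset.2 (hn u)).trans (List.toFinset_card_le l)) (not_le.2 h)

theorem quad_all [Fintype K] (h3 : 3 ≤ Fintype.card K) {c0 c1 c2 τ : K} (h : ∀ t, c0 + c1 * t + c2 * t ^ 2 = τ) :
    c2 = 0 ∧ c1 = 0 ∧ c0 = τ := by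
  obtain ⟨u, hu⟩ := exists_notMem [(0 : K), 1] h3
  simp only [List.mem_cons, List.not_mem_nil, or_false, not_or] at hu
  exact quad_of zero_ne_one (Ne.symm hu.1) (Ne.symm hu.2) (h _) (h _) (h _)

theorem quad_ne [Fintype K] (h4 : 4 ≤ Fintype.card K) {c0 c1 c2 τ : K} (h : ∀ t ≠ 0, c0 + c1 * t + c2 * t ^ 2 = τ) :
    c2 = 0 ∧ c1 = 0 ∧ c0 = τ := by
  obtain ⟨u, hu⟩ := exists_notMem [(0 : K), 1] (by simp only [List.length]; omega)
  obtain ⟨v, hv⟩ := exists_notMem [(0 : K), 1, u] h4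
  simp only [List.mem_cons, List.not_mem_nil, or_false, not_or] at hu hv
  exact quad_of (Ne.symm hu.2) (Ne.symm hv.2.1) (Ne.symm hv.2.2) (h _ one_ne_zero) (h _ hu.1) (h _ hv.1)

/-- The matrices of the elements of `U`. -/
def Um (y1 y2 y3 y4 y5 y6 : K) : Matrix (Fin 7) (Fin 7) K :=
  !![1, y1, -y3 + y1 * y2, -2 * y4 + 2 * y1 * y3, y5 + y1 * y4, y6 + y3 * y4 - y1 * y2 * y4 + y1 * y3 ^ 2, -y1 * y6 + y3 * y5 + y4 ^ 2 - y1 * y2 * y5 - 2 * y1 * y3 * y4;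
    0, 1, y2, 2 * y3, y4, -y2 * y4 + y3 ^ 2, -y6 - y2 * y5 - 2 * y3 * y4;
    0, 0, 1, 2 * y1, y1 ^ 2, -y4 + 2 * y1 * y3 - y1 ^ 2 * y2, -y5 - 2 * y1 * y4 + y1 ^ 2 * y3;
    0, 0, 0, 1, y1, y3 - y1 * y2, -y4 + y1 * y3;
    0, 0, 0, 0, 1, -y2, y3;
    0, 0, 0, 0, 0, 1, -y1;
    0, 0, 0, 0, 0, 0, 1]

/-- The matrices of the elements of `H`. -/
def Hm (p r : K) : Matrix (Fin 7) (Fin 7) K :=
  !![p, 0, 0, 0, 0, 0, 0;
    0, p⁻¹ * r, 0, 0, 0, 0, 0;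
    0, 0, p ^ 2 * r⁻¹, 0, 0, 0, 0;
    0, 0, 0, 1, 0, 0, 0;
    0, 0, 0, 0, p⁻¹ ^ 2 * r, 0, 0;
    0, 0, 0, 0, 0, p * r⁻¹, 0;
    0, 0, 0, 0, 0, 0, p⁻¹]

variable [Finite K]

/-- The representation. -/
noncomputable def rho : chevG2.group K →* Matrix (Fin 7) (Fin 7) K := exists_rho.choose

theorem rho_x (r : ℕ) (t : K) : rho (xx K r t) = Y r t := exists_rho.choose_spec r t

theorem rho_conj (r : ℕ) (t : K) (g : chevG2.group K) : rho (xx K r t * g * (xx K r t)⁻¹) = Y r t * rho g * Y r (-t) := by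
  rw [← stb.neg, map_mul, map_mul, rho_x, rho_x]

theorem rho_U (y1 y2 y3 y4 y5 y6 : K) :
    rho (xx K 7 y1 * xx K 6 y2 * xx K 8 y3 * xx K 9 y4 * xx K 10 y5 * xx K 11 y6) = Um y1 y2 y3 y4 y5 y6 := by
  simp only [map_mul, rho_x, Y, Um, mul7, mul_zero, zero_mul, add_zero, zero_add, mul_one, one_mul]
  apply eq7 <;> ring

theorem rho_H (p r : Kˣ) : rho (hE chevG2 (xx K) 7 p * hE chevG2 (xx K) 6 r) = Hm (p : K) r := by
  have h1 := mul_inv_cancel₀ p.ne_zero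
  have h2 := mul_inv_cancel₀ r.ne_zero
  simp only [hE, nE, show chevG2.neg 7 = 4 from rfl, show chevG2.neg 6 = 5 from rfl, map_mul, rho_x, Y, Hm, mul7, mul_zero, zero_mul, add_zero, zero_add, mul_one, one_mul, inv_neg,
    inv_one, neg_neg]
  generalize (p : K)⁻¹ = p' at *
  generalize (r : K)⁻¹ = r' at *
  apply eq7 <;> grind

theorem rho_n0 : rho (nE chevG2 (xx K) 7 1) =
    !![0, 1, 0, 0, 0, 0, 0;
    -1, 0, 0, 0, 0, 0, 0;
    0, 0, 0, 0, 1, 0, 0;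
    0, 0, 0, -1, 0, 0, 0;
    0, 0, 1, 0, 0, 0, 0;
    0, 0, 0, 0, 0, 0, -1;
    0, 0, 0, 0, 0, 1, 0] := by
  simp only [nE, show chevG2.neg 7 = 4 from rfl, map_mul, rho_x, Y, mul7, mul_zero, zero_mul, add_zero, zero_add, mul_one, one_mul, inv_one]
  apply eq7 <;> ring

theorem rho_n1 : rho (nE chevG2 (xx K) 6 1) =
    !![1, 0, 0, 0, 0, 0, 0;
    0, 0, 1, 0, 0, 0, 0;
    0, -1, 0, 0, 0, 0, 0;
    0, 0, 0, 1, 0, 0, 0;
    0, 0, 0, 0, 0, -1, 0;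
    0, 0, 0, 0, 1, 0, 0;
    0, 0, 0, 0, 0, 0, 1] := by
  simp only [nE, show chevG2.neg 6 = 5 from rfl, map_mul, rho_x, Y, mul7, mul_zero, zero_mul, add_zero, zero_add, mul_one, one_mul, inv_one]
  apply eq7 <;> ring

/-- Words for the reflections in the highest long and short roots and for the longest element. -/
def lL : List (Fin chevG2.rank) := ([1, 0, 1, 0, 1] : List (Fin 2))
/-- See `lL`. -/
def lS : List (Fin chevG2.rank) := ([0, 1, 0, 1, 0] : List (Fin 2))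
/-- See `lL`. -/
def l0 : List (Fin chevG2.rank) := ([0, 1, 0, 1, 0, 1] : List (Fin 2))

theorem rho_lL : rho (nWd chevG2 (xx K) lL) =
    !![0, 0, 0, 0, 0, -1, 0;
    0, 0, 0, 0, 0, 0, 1;
    0, 0, 1, 0, 0, 0, 0;
    0, 0, 0, 1, 0, 0, 0;
    0, 0, 0, 0, 1, 0, 0;
    1, 0, 0, 0, 0, 0, 0;
    0, -1, 0, 0, 0, 0, 0] := by
  rw [show nWd chevG2 (xx K) lL = nE chevG2 (xx K) 6 1 * (nE chevG2 (xx K) 7 1 * (nE chevG2 (xx K) 6 1 * (nE chevG2 (xx K) 7 1 * (nE chevG2 (xx K) 6 1 * (1))))) from rfl]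
  simp only [map_mul, rho_n0, rho_n1, mul7, mul_zero, zero_mul, add_zero, zero_add, mul_one, one_mul]
  apply eq7 <;> ring

theorem rho_lS : rho (nWd chevG2 (xx K) lS) =
    !![0, 0, 0, 0, 0, 0, 1;
    0, 0, 0, 0, -1, 0, 0;
    0, 0, 0, 0, 0, 1, 0;
    0, 0, 0, -1, 0, 0, 0;
    0, 1, 0, 0, 0, 0, 0;
    0, 0, -1, 0, 0, 0, 0;
    1, 0, 0, 0, 0, 0, 0] := by
  rw [show nWd chevG2 (xx K) lS = nE chevG2 (xx K) 7 1 * (nE chevG2 (xx K) 6 1 * (nE chevG2 (xx K) 7 1 * (nE chevG2 (xx K) 6 1 * (nE chevG2 (xx K) 7 1 * (1))))) from rfl]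
  simp only [map_mul, rho_n0, rho_n1, mul7, mul_zero, zero_mul, add_zero, zero_add, mul_one, one_mul]
  apply eq7 <;> ring

theorem rho_l0 : rho (nWd chevG2 (xx K) l0) =
    !![0, 0, 0, 0, 0, 0, 1;
    0, 0, 0, 0, 0, 1, 0;
    0, 0, 0, 0, 1, 0, 0;
    0, 0, 0, -1, 0, 0, 0;
    0, 0, 1, 0, 0, 0, 0;
    0, 1, 0, 0, 0, 0, 0;
    1, 0, 0, 0, 0, 0, 0] := by
  rw [show nWd chevG2 (xx K) l0 = nE chevG2 (xx K) 7 1 * (nE chevG2 (xx K) 6 1 * (nE chevG2 (xx K) 7 1 * (nE chevG2 (xx K) 6 1 * (nE chevG2 (xx K) 7 1 * (nE chevG2 (xx K) 6 1 * (1)))))) from rfl]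
  simp only [map_mul, rho_n0, rho_n1, mul7, mul_zero, zero_mul, add_zero, zero_add, mul_one, one_mul]
  apply eq7 <;> ring

theorem rho_inj : Function.Injective (rho (K := K)) := by
  rw [injective_iff_map_eq_one]
  intro g hg
  obtain ⟨w, hw, hc⟩ := stb.exists_cell (mem_GG g)
  obtain ⟨u, hu, n, hn, v, hv, rfl⟩ := stb.cell_sharp hc
  have hv' := Um_le_UU _ _ hv
  have h1 : rho n = rho (u⁻¹ * v⁻¹) := by
    have : n = u⁻¹ * (u * n * v) * v⁻¹ := by group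
    rw [this, map_mul, map_mul, hg, mul_one, ← map_mul]
  have hu0 := mul_mem (inv_mem hu) (inv_mem hv')
  generalize u⁻¹ * v⁻¹ = u0 at h1 hu0
  have hw1 : w = 1 := by
    by_contra hne
    obtain ⟨i, hi⟩ := exists_simple_neg hw hne
    obtain ⟨c, hc, ha⟩ := hn.acts stb
    have h2 := ha (chevG2.simple i) 1
    have h4 := hc.ne_zero (simple_lt i)
    have h5 : rho (xx K (w (chevG2.simple i)) (c (chevG2.simple i) * 1)) =
        rho (u0 * xx K (chevG2.simple i) 1 * u0⁻¹) := by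
      have h6 : rho n⁻¹ = rho u0⁻¹ := by
        have : n⁻¹ = n⁻¹ * u0 * u0⁻¹ := by group
        rw [this, map_mul, map_mul, ← h1, ← map_mul, inv_mul_cancel, map_one, one_mul]
      rw [← h2, map_mul, map_mul, h1, h6, map_mul, map_mul]
    obtain ⟨p, q, r, s, y, z, h7⟩ := exists_UU (mul_mem (mul_mem hu0 (x_mem_UU _ (simple_pos i) 1)) (inv_mem hu0))
    rw [h7, rho_U, rho_x, mul_one] at h5
    generalize c (chevG2.simple i) = d at h4 h5
    generalize w (chevG2.simple i) = k at hi h5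
    have hk : k < 12 := hi.1
    have hk' : k < 6 := by
      by_contra hh
      have : 6 ≤ k := not_lt.1 hh
      interval_cases k <;> revert hi <;> decide +kernel
    interval_cases k <;> rw [Y, Um, eq7_iff] at h5 <;> grind
  subst hw1
  have hH := hn.mem_HH stb
  obtain ⟨a, b, rfl⟩ := exists_HH hH
  obtain ⟨p, q, r, s, y, z, rfl⟩ := exists_UU hu0
  rw [rho_H, rho_U, Hm, Um, eq7_iff] at h1
  have ha : a = 1 := Units.ext h1.1
  have hb : b = 1 := Units.ext (by subst ha; simpa using h1.2.2.2.2.2.2.2.2.1)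
  subst ha hb
  simp only [Units.val_one, stb.hE_one, mul_one] at hg ⊢
  obtain ⟨p, q, r, s, y, z, h7⟩ := exists_UU (mul_mem hu hv')
  rw [h7, rho_U, one7, Um, eq7_iff] at hg
  obtain ⟨rfl, rfl, rfl, rfl, rfl, rfl⟩ : p = 0 ∧ q = 0 ∧ r = 0 ∧ s = 0 ∧ y = 0 ∧ z = 0 := by grind
  rw [h7]; simp [stb.zero]

/-- Some conjugate maps the highest weight vector to an opposite one. -/
def SO (a : chevG2.group K) : Prop := ∃ a', IsConj a a' ∧ rho a' 6 0 ≠ 0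

theorem ext_short [Fintype K] (h3 : 3 ≤ Fintype.card K) {a b c : chevG2.group K} (h : CP a b c) (ha : SO a) (hb : SO b) :
    False := by
  obtain ⟨a, k, ha⟩ := ha
  obtain ⟨b, l, hb⟩ := hb
  replace h := h.congr k l
  have h1 : ∀ s, cp (rho a) (Y 7 s * rho b * Y 7 (-s)) = 0 := fun s => by
    refine neg_eq_zero.1 (quad_all h3 (τ := (rho c).trace) fun t => (tr_poly _ _ t).symm.trans ?_).1
    have := (h.right (isConj_conj (xx K 7 s) _)).trace rho (xx K 11 t)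
    rwa [rho_conj, ← stb.neg, rho_x, rho_x] at this
  exact mul_ne_zero ha hb (neg_eq_zero.1 (quad_all h3 fun t => (cp_poly _ _ t).symm.trans (h1 t)).1)

theorem ext_long [Fintype K] (h4 : 4 ≤ Fintype.card K) {a b c : chevG2.group K} (h : CP a b c)
    (ha : ∀ t ≠ 0, IsConj a (xx K 11 t)) {b' : chevG2.group K} (l : IsConj b b') : mn (rho b') = 0 := by
  refine neg_eq_zero.1 (quad_ne h4 (τ := e2 (rho c)) fun t ht => (e2_poly _ t).symm.trans ?_).1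
  have := h.cls (fun g => e2 (rho g)) (fun g x => by
    rw [map_mul, e2_comm, ← map_mul, inv_mul_cancel_left]) (ha t ht) l
  rwa [map_mul, rho_x] at this

end Cfsg.Agent.H7.AG
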