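import Cfsg.Agent.H7.StW
import Cfsg.Agent.H7.All

/-! The Weyl group is a Coxeter group. -/

set_option autoImplicit false
set_option linter.unusedSectionVars false

namespace Cfsg.Agent.H7

open Cfsg.Lie Cfsg.Agent.H8 CoxeterSystem

/-- The action of a word on root indices. -/
def actW (D : ChevalleyDatum) (l : List (Fin D.rank)) (s : ℕ) : ℕ := l.foldr (fun i s => D.reflectRoot i s) s

/-- The rank two facts for one pair. -/
def chkPair (D : ChevalleyDatum) (m : ℕ) (i j : Fin D.rank) : Prop :=
  (∀ k < m, D.IsPosRoot (actW D (alternatingWord j i k) (D.simple j))) ∧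
  ¬ D.IsPosRoot (actW D (alternatingWord i j m) (D.simple i)) ∧
  ¬ D.IsPosRoot (actW D (alternatingWord i j m) (D.simple j)) ∧
  ∀ k : Fin D.rank, D.IsPosRoot (actW D (alternatingWord i j (2 * m)) (D.simple k))

instance instDecChkPair (D : ChevalleyDatum) (m : ℕ) (i j : Fin D.rank) : Decidable (chkPair D m i j) :=
  @instDecidableAnd _ _ (Nat.decidableBallLT _ _) <| @instDecidableAnd _ _ inferInstance <|
    @instDecidableAnd _ _ inferInstance Fintype.decidableForallFintype

/-- The rank two facts. -/
def chkCox (D : ChevalleyDatum) (M : CoxeterMatrix (Fin D.rank)) : Prop := ∀ i j, i ≠ j → chkPair D (M i j) i j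

instance instDecChkCox (D : ChevalleyDatum) (M : CoxeterMatrix (Fin D.rank)) : Decidable (chkCox D M) :=
  @Fintype.decidableForallFintype _ _ (fun i => @Fintype.decidableForallFintype _ _
    (fun j => decidable_of_iff (i = j ∨ chkPair D (M i j) i j) or_iff_not_imp_left) _) _

variable {D : ChevalleyDatum} [hD : RootFacts D] {M : CoxeterMatrix (Fin D.rank)}

theorem wordW_apply (l : List (Fin D.rank)) (s : ℕ) : wordW D l s = actW D l s := by
  induction l with
  | nil => rfl
  | cons i l ih => rw [wordW_cons, Equiv.Perm.mul_apply, ih]; rfl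

theorem alt_succ {B : Type*} (i j : B) (m : ℕ) : alternatingWord i j (m + 1) = alternatingWord j i m ++ [j] := by
  rw [alternatingWord_succ, List.concat_eq_append]

theorem mem_alt {B : Type*} {i j k : B} {m : ℕ} (h : k ∈ alternatingWord i j m) : k = i ∨ k = j := by
  induction m generalizing i j with
  | zero => simp [alternatingWord] at h
  | succ m ih =>
    rw [alt_succ, List.mem_append, List.mem_singleton] at h
    exact h.elim (fun h => (ih h).symm) Or.inr

theorem chkCox.liftable (h : chkCox D M) : M.IsLiftable fun i => (⟨sref D i, sref_mem i⟩ : W D) := fun i j => by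
  refine Subtype.ext ?_
  by_cases hij : i = j
  · simp [hij, sref_mul_self]
  have h1 : ∀ m, wordW D (alternatingWord i j (2 * m)) = (sref D i * sref D j) ^ m := fun m => by
    induction m with
    | zero => rfl
    | succ m ih => rw [Nat.mul_succ, alt_succ, alt_succ, wordW_concat, wordW_concat, ih, pow_succ, mul_assoc]
  exact (h1 _).symm.trans (eq_one_of_simple_pos (wordW_mem _) fun k => by rw [wordW_apply]; exact (h i j hij).2.2.2 k)

theorem chkCox.len_alt (h : chkCox D M) {i j : Fin D.rank} (hij : i ≠ j) {k : ℕ} (hk : k ≤ M i j) :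
    len D (wordW D (alternatingWord i j k)) = k := by
  induction k generalizing i j with
  | zero => exact len_one
  | succ k ih =>
    rw [alt_succ, wordW_concat, len_mul_sref_of_pos (wordW_mem _) (by rw [wordW_apply]; exact (h i j hij).1 k hk),
      ih hij.symm (by rw [M.symmetric]; omega)]

theorem chkCox.alt_eq (h : chkCox D M) {i j : Fin D.rank} (hij : i ≠ j) :
    wordW D (alternatingWord i j (M i j)) = wJ D {i.1, j.1} :=
  eq_wJ (wordW_mem_WJ fun k hk => by rcases mem_alt hk with rfl | rfl <;> simp) fun k hk => by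
    refine negRoot_of_not_pos (W_lt (wordW_mem _) (simple_lt k)) ?_
    rw [wordW_apply]
    rcases hk with e | e <;> rw [Fin.ext e]
    · exact (h i j hij).2.1
    · exact (h i j hij).2.2.1

theorem chkCox.matsumoto (h : chkCox D M) {l l' : List (Fin D.rank)} (h1 : len D (wordW D l) = l.length)
    (h2 : l'.length = l.length) (e : wordW D l' = wordW D l) : M.toCoxeterSystem.wordProd l = M.toCoxeterSystem.wordProd l' := by
  induction hn : l.length generalizing l l' with
  | zero => rw [List.length_eq_zero_iff.1 hn, List.length_eq_zero_iff.1 (h2.trans hn)]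
  | succ n ih =>
    have key : ∀ (l : List (Fin D.rank)) (i : Fin D.rank), len D (wordW D (l ++ [i])) = l.length + 1 →
        len D (wordW D l) = l.length ∧ D.IsNegRoot (wordW D (l ++ [i]) (D.simple i)) := fun l i h => by
      rw [wordW_concat] at h ⊢
      have h1 := len_wordW_le l
      have h2 := len_mul_sref_le (wordW_mem l) i
      refine ⟨by omega, mul_sref_neg_of_pos (wordW_mem l) (pos_of_not_neg (W_lt (wordW_mem l) (simple_lt i)) fun h3 => ?_)⟩
      have := len_mul_sref_of_neg (wordW_mem l) h3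
      omega
    obtain ⟨l, i, rfl⟩ := (List.eq_nil_or_concat' l).resolve_left (by rintro rfl; simp at hn)
    obtain ⟨l', j, rfl⟩ := (List.eq_nil_or_concat' l').resolve_left (by rintro rfl; simp at h2)
    simp only [List.length_append, List.length_singleton, add_left_inj] at h1 h2 hn
    obtain ⟨h3, h4⟩ := key l i h1
    obtain ⟨h5, h6⟩ := key l' j (by rw [e, h1, h2])
    by_cases hij : i = j
    · subst hij
      rw [wordW_concat, wordW_concat, mul_left_inj] at e
      rw [wordProd_append, wordProd_append, ih h3 h2 e hn]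
    obtain ⟨d, hd, h7, v, hv, e'⟩ := exists_red {i.1, j.1} (wordW_mem (l ++ [i]))
    have h8 : v = wJ D {i.1, j.1} := eq_wJ hv fun k hk => negRoot_of_not_pos (W_lt (WJ_le _ hv) (simple_lt k)) fun h => by
      have h9 := W_pos_of_J hd h7 h ((inRootSub_WJ hv).2 (simple_inRootSub.2 hk))
      rw [← Equiv.Perm.mul_apply, ← e'] at h9
      rcases hk with e₁ | e₁ <;> rw [Fin.ext e₁] at h9
      · exact not_neg_of_pos h9 h4
      · exact not_neg_of_pos h9 (e ▸ h6)
    obtain ⟨r, rfl, hr⟩ := exists_reduced hd
    obtain ⟨k, hk⟩ : ∃ k, M i j = k + 1 := Nat.exists_eq_succ_of_ne_zero fun h0 =>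
      (h i j hij).2.1 (by rw [h0]; exact simple_pos i)
    have h9 := h.alt_eq hij
    have h10 := h.alt_eq (Ne.symm hij)
    have h11 := len_mul_WJ hd h7 hv
    rw [← e', h1, h8, ← h9, h.len_alt hij le_rfl, ← hr] at h11
    have h12 := M.toCoxeterSystem.wordProd_braidWord_eq i j
    simp only [braidWord] at h12
    rw [M.symmetric j i, hk] at h10 h12
    rw [hk] at h9
    rw [Set.pair_comm, ← h8, alt_succ] at h10
    rw [← h8, alt_succ] at h9
    rw [alt_succ, alt_succ] at h12
    rw [wordProd_append, wordProd_append, ih (l' := r ++ alternatingWord i j k) h3 (by simp; omega) ?_ hn,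
      ih (l' := r ++ alternatingWord j i k) h5 (by simp; omega) ?_ (h2.trans hn), wordProd_append, wordProd_append,
      mul_assoc, mul_assoc, ← wordProd_append _ _ [i], ← wordProd_append _ _ [j], h12]
    · rw [← mul_left_inj (sref D j), ← wordW_concat, ← wordW_concat, e, e', List.append_assoc, wordW_append, h9]
    · rw [← mul_left_inj (sref D i), ← wordW_concat, ← wordW_concat, e', List.append_assoc, wordW_append, h10]

theorem chkCox.exists_equiv (h : chkCox D M) : ∃ e : M.Group ≃* W D, ∀ i, (e (M.simple i)).1 = sref D i := by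
  let φ : M.Group →* W D := M.toCoxeterSystem.lift ⟨_, h.liftable⟩
  have h0 : ∀ i, (φ (M.simple i)).1 = sref D i := fun i =>
    congrArg Subtype.val (M.toCoxeterSystem.lift_apply_simple h.liftable i)
  have h1 : ∀ l, (φ (M.toCoxeterSystem.wordProd l)).1 = wordW D l := fun l => by
    induction l with
    | nil => simp
    | cons i l ih => rw [wordProd_cons, map_mul, Subgroup.coe_mul, ih, wordW_cons]; exact congrArg (· * _) (h0 i)
  have h2 : ∀ l, ∃ l', len D (wordW D l') = l'.length ∧ wordW D l' = wordW D l ∧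
      M.toCoxeterSystem.wordProd l' = M.toCoxeterSystem.wordProd l := fun l => by
    induction l using List.reverseRecOn with
    | nil => exact ⟨[], len_one, rfl, rfl⟩
    | append_singleton l i ih =>
      obtain ⟨l', h1, h2, h3⟩ := ih
      rcases pos_or_neg (W_lt (wordW_mem l') (simple_lt i)) with h4 | h4
      · exact ⟨l' ++ [i], by rw [wordW_concat, len_mul_sref_of_pos (wordW_mem _) h4, h1]; simp,
          by rw [wordW_concat, wordW_concat, h2], by rw [wordProd_append, wordProd_append, h3]⟩
      · obtain ⟨r, h5, h6⟩ := exists_reduced (mul_mem (wordW_mem l') (sref_mem i))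
        have h7 := len_mul_sref_of_neg (wordW_mem l') h4
        refine ⟨r, h5 ▸ h6.symm, by rw [h5, h2, wordW_concat], ?_⟩
        rw [wordProd_append, ← h3, h.matsumoto (l' := r ++ [i]) h1 (by simp; omega)
          (by rw [wordW_concat, h5, mul_assoc, sref_mul_self, mul_one])]
        rw [wordProd_append, wordProd_singleton, simple_mul_simple_cancel_right]
  refine ⟨MulEquiv.ofBijective φ ⟨(injective_iff_map_eq_one φ).2 fun g hg => ?_, fun ⟨w, hw⟩ => ?_⟩, h0⟩
  · obtain ⟨l, rfl⟩ := M.toCoxeterSystem.wordProd_surjective g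
    obtain ⟨l', h3, h4, h5⟩ := h2 l
    rw [h4, ← h1, hg, OneMemClass.coe_one, len_one, eq_comm, List.length_eq_zero_iff] at h3
    rw [← h5, h3, wordProd_nil]
  · obtain ⟨l, rfl⟩ := exists_word hw
    exact ⟨_, Subtype.ext (h1 l)⟩

theorem W_central_iff [DiagFacts D] {z : W D} :
    z ∈ Subgroup.center (W D) ↔ z = 1 ∨ ∀ i : Fin D.rank, z.1 (D.simple i) = D.neg (D.simple i) := by
  constructor
  · intro h
    have h1 : ∀ i : Fin D.rank, z.1 (D.simple i) = D.simple i ∨ z.1 (D.simple i) = D.neg (D.simple i) := fun i => by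
      have h2 := conj_refl z.2 (D.simple i)
      rw [refl_simple, ← show sref D i * z.1 = z.1 * sref D i from
        congrArg Subtype.val (Subgroup.mem_center_iff.1 h ⟨_, sref_mem i⟩), mul_inv_cancel_right] at h2
      have h3 := wt_refl (z.1 (D.simple i)) (D.simple i) (D := D)
      rw [← h2, sref_simple, wt_neg (simple_lt i)] at h3
      refine (eq_or_neg_of_smul (W_lt z.2 (simple_lt i)) (simple_lt i) (b := 2) (a := A D (z.1 (D.simple i)) (D.simple i))
        (fun h0 => wt_ne_zero (simple_lt i) ?_) (by rw [← sub_eq_zero, ← neg_eq_zero, ← sub_eq_zero.2 h3.symm]; module)).imp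
        Eq.symm (eq_neg_comm (W_lt z.2 (simple_lt i)))
      rw [h0, zero_smul, sub_zero] at h3
      exact funext fun j => by have := congrFun h3 j; simp only [Pi.neg_apply, Pi.zero_apply] at this ⊢; omega
    by_cases h2 : ∃ i : Fin D.rank, z.1 (D.simple i) = D.simple i
    · obtain ⟨i, hi⟩ := h2
      refine Or.inl (Subtype.ext (eq_one_of_simple_pos z.2 fun j => ?_))
      rw [conn (fun i => z.1 (D.simple i) = D.simple i) (fun i j _ hij hi => (h1 j).resolve_right fun hj => hij ?_) hi j]
      · exact simple_pos j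
      have := A_W z.2 (D.simple j) (D.simple i)
      rw [hi, hj, A_neg_left (simple_lt j), A_simple] at this
      change wt D (D.simple i) j = 0
      omega
    · exact Or.inr fun i => (h1 i).resolve_left fun h => h2 ⟨i, h⟩
  · rintro (rfl | h)
    · exact one_mem _
    · refine Subgroup.mem_center_iff.2 fun ⟨w, hw⟩ => Subtype.ext ?_
      refine W_induction (P := fun w => w * z.1 = z.1 * w) (by simp) (fun i w _ ih => ?_) hw
      have h2 := conj_refl z.2 (D.simple i)
      rw [h, refl_neg (simple_lt i), refl_simple, mul_inv_eq_iff_eq_mul] at h2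
      rw [mul_assoc, ih, ← mul_assoc, ← h2, mul_assoc]

theorem eq_w0_of_simple {w : Equiv.Perm ℕ} (hw : w ∈ W D) (h : ∀ i : Fin D.rank, D.IsNegRoot (w (D.simple i))) : w = w0 D :=
  eq_w0 hw fun _ hr => W_neg_of_J (J := Set.univ) hw (fun i _ => h i) hr (inRootSub_iff.2 ⟨hr.1, by simp⟩)

theorem map_cox {e : M.Group ≃* W D} (he : ∀ i, (e (M.simple i)).1 = sref D i) (l : List (Fin D.rank)) :
    (e (l.map M.simple).prod).1 = wordW D l := by
  induction l with
  | nil => simp
  | cons i l ih => rw [List.map_cons, List.prod_cons, map_mul, Subgroup.coe_mul, ih, he, wordW_cons]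

theorem chkCox.center_two [DiagFacts D] (h : chkCox D M) (k : ℕ)
    (hk : ∀ i : Fin D.rank, (actW D (List.finRange D.rank))^[k] (D.simple i) = D.neg (D.simple i)) :
    Nat.card (Subgroup.center M.Group) = 2 ∧
      Subgroup.center M.Group ≤ Subgroup.zpowers ((List.finRange D.rank).map M.simple).prod := by
  obtain ⟨e, he⟩ := h.exists_equiv
  set c := ((List.finRange D.rank).map M.simple).prod
  have h1 : ∀ i : Fin D.rank, (e (c ^ k)).1 (D.simple i) = D.neg (D.simple i) := fun i => by
    rw [map_pow, Subgroup.coe_pow, map_cox he, ← hk, Equiv.Perm.coe_pow, funext (wordW_apply _)]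
  have h2 : ∀ g, g ∈ Subgroup.center M.Group ↔ g = 1 ∨ g = c ^ k := fun g => by
    refine (MulEquivClass.apply_mem_center_iff e).symm.trans (W_central_iff.trans ?_)
    rw [map_eq_one_iff _ e.injective]
    refine or_congr_right ⟨fun h => e.injective (Subtype.ext ((eq_w0_of_simple (e g).2 fun i => h i ▸ neg_simple_neg i).trans
      (eq_w0_of_simple (e _).2 fun i => h1 i ▸ neg_simple_neg i).symm)), fun h => h ▸ h1⟩
  refine ⟨Nat.card_eq_two_iff.2 ⟨1, ⟨c ^ k, (h2 _).2 (Or.inr rfl)⟩, fun h => ?_, Set.eq_univ_of_forall fun g => ?_⟩, fun g hg => ?_⟩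
  · have := h1 ⟨0, rank_pos⟩
    rw [← show 1 = c ^ k from congrArg Subtype.val h, map_one] at this
    exact neg_ne (simple_lt _) this.symm
  · exact ((h2 g).1 g.2).imp Subtype.ext Subtype.ext
  · rcases (h2 g).1 hg with rfl | rfl
    exacts [one_mem _, pow_mem (Subgroup.mem_zpowers c) k]

theorem chkCox.center_one [DiagFacts D] (h : chkCox D M) (l : List (Fin D.rank))
    (hl : (∀ i : Fin D.rank, D.IsNegRoot (actW D l (D.simple i))) ∧ ∃ i : Fin D.rank, actW D l (D.simple i) ≠ D.neg (D.simple i)) :
    Subgroup.center M.Group = ⊥ := by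
  obtain ⟨e, he⟩ := h.exists_equiv
  refine eq_bot_iff.2 fun g hg => (map_eq_one_iff _ e.injective).1
    ((W_central_iff.1 ((MulEquivClass.apply_mem_center_iff e).2 hg)).resolve_right fun h1 => ?_)
  obtain ⟨i, hi⟩ := hl.2
  rw [← wordW_apply, eq_w0_of_simple (wordW_mem l) fun i => by rw [wordW_apply]; exact hl.1 i,
    ← eq_w0_of_simple (e g).2 fun i => h1 i ▸ neg_simple_neg i] at hi
  exact hi (h1 i)

/-- Generation of the simple roots by reflections and the Coxeter element. -/
def chkGen (D : ChevalleyDatum) : List ℕ → List (ℕ × ℕ × ℕ) → Bool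
  | L, [] => (List.finRange D.rank).all fun i => D.simple i ∈ L
  | L, (k, a, b) :: st => b ∈ L && (k == actW D (List.finRange D.rank) b || (a ∈ L && k < D.nroots && b < D.nroots &&
      (List.finRange D.rank).all fun i => D.cartan i k == D.cartan i b - D.pairing a b * D.cartan i a)) && chkGen D (k :: L) st

theorem chkGen_sound {H : Subgroup (Equiv.Perm ℕ)} (hc : wordW D (List.finRange D.rank) ∈ H) {L : List ℕ}
    {st : List (ℕ × ℕ × ℕ)} (hL : ∀ r ∈ L, refl D r ∈ H) (h : chkGen D L st = true) (i : Fin D.rank) : sref D i ∈ H := by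
  induction st generalizing L with
  | nil => exact refl_simple i ▸ hL _ (by simpa using List.all_eq_true.1 h i (List.mem_finRange i))
  | cons s st ih =>
    obtain ⟨k, a, b⟩ := s
    simp only [chkGen, Bool.and_eq_true, Bool.or_eq_true, decide_eq_true_eq, beq_iff_eq, List.all_eq_true] at h
    refine ih (List.forall_mem_cons.2 ⟨?_, hL⟩) h.2
    rcases h.1.2 with h1 | ⟨⟨⟨h1, h2⟩, h3⟩, h4⟩
    · rw [h1, ← wordW_apply, ← conj_refl (wordW_mem _)]
      exact mul_mem (mul_mem hc (hL b h.1.1)) (inv_mem hc)
    · rw [wt_inj h2 (W_lt (refl_mem a) h3) (by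
        rw [wt_refl, A_eq_pairing]; exact funext fun i => h4 i (List.mem_finRange i)), ← conj_refl (refl_mem a)]
      exact mul_mem (mul_mem (hL a h1) (hL b h.1.1)) (inv_mem (hL a h1))

theorem chkCox.gen (h : chkCox D M) (T : List (Fin D.rank)) (hT : T.Nodup) (st : List (ℕ × ℕ × ℕ))
    (hc : chkGen D (T.map fun i : Fin D.rank => D.simple i.1) st = true) :
    ∃ S : Finset M.Group, S.card = T.length ∧ (∀ t ∈ S, ∃ (g : M.Group) (i : Fin D.rank), t = g * M.simple i * g⁻¹) ∧
      Subgroup.closure (({((List.finRange D.rank).map M.simple).prod} : Set M.Group) ∪ ↑S) = ⊤ := by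
  classical
  obtain ⟨e, he⟩ := h.exists_equiv
  refine ⟨(T.map M.simple).toFinset, ?_, fun t ht => ?_, ?_⟩
  · rw [List.toFinset_card_of_nodup (hT.map fun i j hij => ?_), List.length_map]
    refine Fin.ext (Set.mem_singleton_iff.1 ((sref_mem_WJ_iff (J := {j.1})).1 ?_))
    rw [← he, hij, he]
    exact sref_mem_WJ (Set.mem_singleton _)
  · obtain ⟨i, -, rfl⟩ := List.mem_map.1 (List.mem_toFinset.1 ht)
    exact ⟨1, i, by simp⟩
  rw [eq_top_iff, ← M.toCoxeterSystem.subgroup_closure_range_simple, Subgroup.closure_le]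
  rintro _ ⟨i, rfl⟩
  obtain ⟨g, hg, e'⟩ := chkGen_sound (H := (Subgroup.closure (({((List.finRange D.rank).map M.simple).prod} : Set M.Group) ∪
    ↑(T.map M.simple).toFinset)).map ((W D).subtype.comp e.toMonoidHom))
    ⟨_, Subgroup.subset_closure (Or.inl rfl), map_cox he _⟩ (fun r hr => by
      obtain ⟨j, hj, rfl⟩ := List.mem_map.1 hr
      exact ⟨M.simple j, Subgroup.subset_closure (Or.inr (by simpa using ⟨j, hj, rfl⟩)), (he j).trans (refl_simple j).symm⟩) hc i
  rwa [show g = M.simple i from e.injective (Subtype.ext (e'.trans (he i).symm))] at hg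

theorem chkCoxG2 : chkCox chevG2 CoxeterMatrix.G₂ :=
  @of_decide_eq_true _ (instDecChkCox _ _) (by decide +kernel)
theorem chkCoxB2 : chkCox chevB2 (CoxeterMatrix.B 2) :=
  @of_decide_eq_true _ (instDecChkCox _ _) (by decide +kernel)
theorem chkCoxD4 : chkCox chevD4 coxeterD4 :=
  @of_decide_eq_true _ (instDecChkCox _ _) (by decide +kernel)
theorem chkCoxF4 : chkCox chevF4 CoxeterMatrix.F₄ :=
  @of_decide_eq_true _ (instDecChkCox _ _) (by decide +kernel)
theorem chkCoxE6 : chkCox chevE6 CoxeterMatrix.E₆ :=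
  @of_decide_eq_true _ (instDecChkCox _ _) (by decide +kernel)
theorem chkCoxE7 : chkCox chevE7 CoxeterMatrix.E₇ :=
  @of_decide_eq_true _ (instDecChkCox _ _) (by decide +kernel)
theorem chkCoxE8 : chkCox chevE8 CoxeterMatrix.E₈ :=
  @of_decide_eq_true _ (instDecChkCox _ _) (by decide +kernel)

end Cfsg.Agent.H7
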