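import Cfsg.Agent.H7.Twist
import Cfsg.Agent.H7.All

/-! The graph automorphisms. -/

set_option autoImplicit false
set_option maxRecDepth 100000

namespace Cfsg.Agent.H7

open Cfsg.Lie Cfsg.Agent.H8

variable {F : Type*} [Field F] [Finite F]

def twG2 : List (List (ℕ × ℕ × ℤ)) := [[(2, 1, 1)], [(3, 1, 1)], [(0, 3, 1)], [(1, 3, 1)], [(5, 3, 1)], [(4, 1, 1)], [(7, 1, 1)], [(6, 3, 1)], [(10, 3, 1)], [(11, 3, 1)], [(8, 1, 1)], [(9, 1, 1)]]

theorem chkTwG2 : chkFam fastG2 fastG2 3 (mkY twG2) = true := by decide +kernel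

def piG2 : Equiv.Perm (Fin 2) := Equiv.swap 0 1

theorem symmG2 : chevG2.IsDiagramSymmetry piG2 := by unfold ChevalleyDatum.IsDiagramSymmetry; decide +kernel

theorem graphG2 [CharP F 3] : piG2 ∈ (piHom (isChev_xg (D := chevG2) (F := F))).range :=
  have : Fact (Nat.Prime 3) := ⟨by norm_num⟩
  mem_range_of_table (agree_of_check smallG2 chainG2 ltG2) 3 3 (by exact_mod_cast CharP.cast_eq_zero F 3)
    (fun t u => add_pow_char t u 3) (frobenius F 3).injective twG2 (by decide +kernel) (by decide +kernel) chkTwG2 _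
    symmG2 (by decide +kernel)

def twB2 : List (List (ℕ × ℕ × ℤ)) := [[(1, 1, 1)], [(0, 2, 1)], [(3, 2, 1)], [(2, 1, 1)], [(5, 1, 1)], [(4, 2, 1)], [(7, 2, 1)], [(6, 1, 1)]]

theorem chkTwB2 : chkFam fastB2 fastB2 2 (mkY twB2) = true := by decide +kernel

def piB2 : Equiv.Perm (Fin 2) := Equiv.swap 0 1

theorem symmB2 : chevB2.IsDiagramSymmetry piB2 := by unfold ChevalleyDatum.IsDiagramSymmetry; decide +kernel

theorem graphB2 [CharP F 2] : piB2 ∈ (piHom (isChev_xg (D := chevB2) (F := F))).range :=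
  have : Fact (Nat.Prime 2) := ⟨by norm_num⟩
  mem_range_of_table (agree_of_check smallB2 chainB2 ltB2) 2 2 (by exact_mod_cast CharP.cast_eq_zero F 2)
    (fun t u => add_pow_char t u 2) (frobenius F 2).injective twB2 (by decide +kernel) (by decide +kernel) chkTwB2 _
    symmB2 (by decide +kernel)

def twF4 : List (List (ℕ × ℕ × ℤ)) := [[(3, 1, 1)], [(7, 1, 1)], [(8, 1, 1)], [(0, 2, 1)], [(9, 1, 1)], [(11, 1, 1)], [(18, 1, 1)], [(1, 2, 1)], [(2, 2, 1)], [(4, 2, 1)], [(15, 2, 1)], [(5, 2, 1)], [(16, 2, 1)], [(21, 2, 1)], [(23, 2, 1)], [(10, 1, 1)], [(12, 1, 1)], [(19, 1, 1)], [(6, 2, 1)], [(17, 2, 1)], [(22, 2, 1)], [(13, 1, 1)], [(20, 1, 1)], [(14, 1, 1)], [(33, 1, 1)], [(27, 1, 1)], [(34, 1, 1)], [(25, 2, 1)], [(30, 2, 1)], [(41, 2, 1)], [(28, 1, 1)], [(35, 1, 1)], [(37, 1, 1)], [(24, 2, 1)], [(26, 2, 1)], [(31, 2, 1)], [(42, 2, 1)], [(32, 2, 1)], [(43, 2, 1)], [(45, 2, 1)], [(46, 2, 1)],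 [(29, 1, 1)], [(36, 1, 1)], [(38, 1, 1)], [(47, 2, 1)], [(39, 1, 1)], [(40, 1, 1)], [(44, 1, 1)]]

theorem chkTwF4 : chkFam fastF4 fastF4 2 (mkY twF4) = true := by decide +kernel

def piF4 : Equiv.Perm (Fin 4) := Equiv.swap 0 3 * Equiv.swap 1 2

theorem symmF4 : chevF4.IsDiagramSymmetry piF4 := by unfold ChevalleyDatum.IsDiagramSymmetry; decide +kernel

theorem graphF4 [CharP F 2] : piF4 ∈ (piHom (isChev_xg (D := chevF4) (F := F))).range :=
  have : Fact (Nat.Prime 2) := ⟨by norm_num⟩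
  mem_range_of_table (agree_of_check smallF4 chainF4 ltF4) 2 2 (by exact_mod_cast CharP.cast_eq_zero F 2)
    (fun t u => add_pow_char t u 2) (frobenius F 2).injective twF4 (by decide +kernel) (by decide +kernel) chkTwF4 _
    symmF4 (by decide +kernel)

def twD4a : List (List (ℕ × ℕ × ℤ)) := [[(0, 1, 1)], [(1, 1, 1)], [(3, 1, 1)], [(2, 1, 1)], [(4, 1, 1)], [(5, 1, 1)], [(6, 1, 1)], [(8, 1, 1)], [(7, 1, 1)], [(9, 1, 1)], [(11, 1, 1)], [(10, 1, 1)], [(13, 1, 1)], [(12, 1, 1)], [(14, 1, 1)], [(16, 1, 1)], [(15, 1, 1)], [(17, 1, 1)], [(18, 1, 1)], [(19, 1, 1)], [(21, 1, 1)], [(20, 1, 1)], [(22, 1, 1)], [(23, 1, 1)]]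

theorem chkTwD4a : chkFam fastD4 fastD4 0 (mkY twD4a) = true := by decide +kernel

def piD4a : Equiv.Perm (Fin 4) := Equiv.swap 2 3

theorem symmD4a : chevD4.IsDiagramSymmetry piD4a := by unfold ChevalleyDatum.IsDiagramSymmetry; decide +kernel

theorem graphD4a : piD4a ∈ (piHom (isChev_xg (D := chevD4) (F := F))).range :=
  mem_range_of_table (agree_of_check smallD4 chainD4 ltD4) 1 0 (by simp)
    (fun t u => by simp) (fun t u h => by simpa using h) twD4a (by decide +kernel) (by decide +kernel) chkTwD4a _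
    symmD4a (by decide +kernel)

def twD4b : List (List (ℕ × ℕ × ℤ)) := [[(0, 1, 1)], [(1, 1, 1)], [(2, 1, 1)], [(6, 1, -1)], [(7, 1, -1)], [(10, 1, 1)], [(3, 1, -1)], [(4, 1, -1)], [(8, 1, 1)], [(9, 1, 1)], [(5, 1, 1)], [(11, 1, 1)], [(12, 1, 1)], [(18, 1, 1)], [(14, 1, 1)], [(15, 1, 1)], [(19, 1, -1)], [(20, 1, -1)], [(13, 1, 1)], [(16, 1, -1)], [(17, 1, -1)], [(21, 1, 1)], [(22, 1, 1)], [(23, 1, 1)]]

theorem chkTwD4b : chkFam fastD4 fastD4 0 (mkY twD4b) = true := by decide +kernel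

def piD4b : Equiv.Perm (Fin 4) := Equiv.swap 0 2

theorem symmD4b : chevD4.IsDiagramSymmetry piD4b := by unfold ChevalleyDatum.IsDiagramSymmetry; decide +kernel

theorem graphD4b : piD4b ∈ (piHom (isChev_xg (D := chevD4) (F := F))).range :=
  mem_range_of_table (agree_of_check smallD4 chainD4 ltD4) 1 0 (by simp)
    (fun t u => by simp) (fun t u h => by simpa using h) twD4b (by decide +kernel) (by decide +kernel) chkTwD4b _
    symmD4b (by decide +kernel)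

def twE6 : List (List (ℕ × ℕ × ℤ)) := [[(0, 1, 1)], [(1, 1, 1)], [(2, 1, 1)], [(5, 1, 1)], [(16, 1, -1)], [(3, 1, 1)], [(6, 1, 1)], [(17, 1, -1)], [(8, 1, 1)], [(19, 1, -1)], [(22, 1, -1)], [(11, 1, 1)], [(26, 1, -1)], [(30, 1, 1)], [(33, 1, -1)], [(35, 1, 1)], [(4, 1, -1)], [(7, 1, -1)], [(18, 1, 1)], [(9, 1, -1)], [(20, 1, 1)], [(23, 1, 1)], [(10, 1, -1)], [(21, 1, 1)], [(24, 1, 1)], [(25, 1, 1)], [(12, 1, -1)], [(27, 1, 1)], [(31, 1, -1)], [(34, 1, 1)], [(13, 1, 1)], [(28, 1, -1)], [(32, 1, 1)], [(14, 1, -1)], [(29, 1, 1)], [(15, 1, 1)], [(56, 1, 1)], [(42, 1, 1)], [(57, 1, -1)], [(39, 1, 1)], [(43, 1, -1)], [(58, 1, 1)], [(37, 1, 1)], [(40, 1, -1)], [(44, 1, 1)], [(59, 1, -1)], [(46, 1, 1)], [(47, 1, 1)], [(50, 1, 1)], [(61, 1, -1)], [(48, 1, 1)], [(51, 1, 1)], [(62, 1, -1)], [(53, 1, 1)], [(64, 1, -1)], [(67, 1, -1)], [(36, 1, 1)], [(38, 1, -1)], [(41, 1, 1)], [(45, 1, -1)], [(60, 1,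 1)], [(49, 1, -1)], [(52, 1, -1)], [(63, 1, 1)], [(54, 1, -1)], [(65, 1, 1)], [(68, 1, 1)], [(55, 1, -1)], [(66, 1, 1)], [(69, 1, 1)], [(70, 1, 1)], [(71, 1, 1)]]

theorem chkTwE6 : chkFam fastE6 fastE6 0 (mkY twE6) = true := by decide +kernel

def piE6 : Equiv.Perm (Fin 6) := Equiv.swap 0 5 * Equiv.swap 2 4

theorem symmE6 : chevE6.IsDiagramSymmetry piE6 := by unfold ChevalleyDatum.IsDiagramSymmetry; decide +kernel

theorem graphE6 : piE6 ∈ (piHom (isChev_xg (D := chevE6) (F := F))).range :=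
  mem_range_of_table (agree_of_check smallE6 chainE6 ltE6) 1 0 (by simp)
    (fun t u => by simp) (fun t u h => by simpa using h) twE6 (by decide +kernel) (by decide +kernel) chkTwE6 _
    symmE6 (by decide +kernel)

end Cfsg.Agent.H7
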