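import Cfsg.Statements.S2193
import Cfsg.Agent.H4.MinIdx

/-! Two-transitive actions: common interface for the classification of the 2-transitive actions of the groups of
Lie type. -/

set_option autoImplicit false
set_option linter.unusedSectionVars false

namespace Cfsg.Agent.H7

open MulAction

/-- The list of conclusions, for a group `G` acting on `N` points. -/
def TTConcl (G : Type*) [Group G] (N : ℕ) : Prop :=
    (∃ (F : Type) (_ : Field F) (_ : Fintype F) (l : ℕ), 3 ≤ l ∧ Nonempty (G ≃* Matrix.ProjectiveSpecialLinearGroup (Fin l) F) ∧ N * (Fintype.card F - 1) = Fintype.card F ^ l - 1) ∨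
    (∃ (F : Type) (_ : Field F) (_ : Fintype F), 4 ≤ Fintype.card F ∧ Nonempty (G ≃* Matrix.ProjectiveSpecialLinearGroup (Fin 2) F) ∧ N = Fintype.card F + 1) ∨
    (∃ (F : Type) (_ : Field F) (_ : Fintype F) (q : ℕ), 3 ≤ q ∧ Fintype.card F = q ^ 2 ∧ Nonempty (G ≃* Cfsg.PSU 3 F q) ∧ N = q ^ 3 + 1) ∨
    (∃ (F : Type) (_ : Field F) (_ : Fintype F) (m : ℕ), 1 ≤ m ∧ Fintype.card F = 2 ^ (2 * m + 1) ∧ Nonempty (G ≃* ↥(Cfsg.Lie.Sz F (2 ^ (m + 1)))) ∧ N = Fintype.card F ^ 2 + 1) ∨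
    (∃ (K : Type) (_ : Field K) (_ : Fintype K) (m : ℕ), 1 ≤ m ∧ Fintype.card K = 3 ^ (2 * m + 1) ∧ Nonempty (G ≃* ↥(Cfsg.Lie.twistedG2 K (3 ^ m))) ∧ N = Fintype.card K ^ 3 + 1) ∨
    (∃ (F : Type) (_ : Field F) (_ : Fintype F), Fintype.card F = 9 ∧ Nonempty (G ≃* Matrix.ProjectiveSpecialLinearGroup (Fin 2) F) ∧ N = 6) ∨
    (∃ (F : Type) (_ : Field F) (_ : Fintype F), Fintype.card F = 11 ∧ Nonempty (G ≃* Matrix.ProjectiveSpecialLinearGroup (Fin 2) F) ∧ N = 11) ∨
    (∃ (F : Type) (_ : Field F) (_ : Fintype F), Fintype.card F = 2 ∧ Nonempty (G ≃* Matrix.ProjectiveSpecialLinearGroup (Fin 4) F) ∧ N = 8) ∨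
    (∃ (F : Type) (_ : Field F) (_ : Fintype F) (n : ℕ), 3 ≤ n ∧ Fintype.card F = 2 ∧ Nonempty (G ≃* Cfsg.PSp n F) ∧ (N = 2 ^ (n - 1) * (2 ^ n + 1) ∨ N = 2 ^ (n - 1) * (2 ^ n - 1))) 

theorem TTConcl.congr {G G' : Type*} [Group G] [Group G'] (e : G ≃* G') {N : ℕ} (h : TTConcl G' N) :
    TTConcl G N := by
  rcases h with ⟨F, _, _, l, h1, ⟨f⟩, h2⟩ | ⟨F, _, _, h1, ⟨f⟩, h2⟩ | ⟨F, _, _, q, h1, h0, ⟨f⟩, h2⟩ |
    ⟨F, _, _, m, h1, h0, ⟨f⟩, h2⟩ | ⟨F, _, _, m, h1, h0, ⟨f⟩, h2⟩ | ⟨F, _, _, h1, ⟨f⟩, h2⟩ |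
    ⟨F, _, _, h1, ⟨f⟩, h2⟩ | ⟨F, _, _, h1, ⟨f⟩, h2⟩ | ⟨F, _, _, n, h1, h0, ⟨f⟩, h2⟩
  · exact .inl ⟨F, _, _, l, h1, ⟨e.trans f⟩, h2⟩
  · exact .inr <| .inl ⟨F, _, _, h1, ⟨e.trans f⟩, h2⟩
  · exact .inr <| .inr <| .inl ⟨F, _, _, q, h1, h0, ⟨e.trans f⟩, h2⟩
  · exact .inr <| .inr <| .inr <| .inl ⟨F, _, _, m, h1, h0, ⟨e.trans f⟩, h2⟩
  · exact .inr <| .inr <| .inr <| .inr <| .inl ⟨F, _, _, m, h1, h0, ⟨e.trans f⟩, h2⟩
  · exact .inr <| .inr <| .inr <| .inr <| .inr <| .inl ⟨F, _, _, h1, ⟨e.trans f⟩, h2⟩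
  · exact .inr <| .inr <| .inr <| .inr <| .inr <| .inr <| .inl ⟨F, _, _, h1, ⟨e.trans f⟩, h2⟩
  · exact .inr <| .inr <| .inr <| .inr <| .inr <| .inr <| .inr <| .inl ⟨F, _, _, h1, ⟨e.trans f⟩, h2⟩
  · exact .inr <| .inr <| .inr <| .inr <| .inr <| .inr <| .inr <| .inr ⟨F, _, _, n, h1, h0, ⟨e.trans f⟩, h2⟩

/-- Two-transitivity (on at least two points) in usable form. -/
structure TT (G Ω : Type*) [Group G] [MulAction G Ω] : Prop where
  nt : Nontrivial Ω
  move : ∀ a b c d : Ω, a ≠ b → c ≠ d → ∃ g : G, g • a = c ∧ g • b = d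

section
variable {G Ω : Type*} [Group G] [MulAction G Ω]

theorem TT.of_mul [FaithfulSMul G Ω] [Nontrivial G] (h : IsMultiplyPretransitive G Ω 2) : TT G Ω := by
  refine ⟨?_, fun a b c d h1 h2 => is_two_pretransitive_iff.1 h h1 h2⟩
  by_contra hn
  rw [not_nontrivial_iff_subsingleton] at hn
  obtain ⟨g, hg⟩ := exists_ne (1 : G)
  exact hg (eq_of_smul_eq_smul (α := Ω) fun x => Subsingleton.elim _ _)

theorem TT.trans (h : TT G Ω) (a c : Ω) : ∃ g : G, g • a = c := by
  have := h.nt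
  obtain ⟨b, hb⟩ := exists_ne a
  obtain ⟨d, hd⟩ := exists_ne c
  obtain ⟨g, h1, -⟩ := h.move a b c d hb.symm hd.symm
  exact ⟨g, h1⟩

theorem TT.pre (h : TT G Ω) : IsPretransitive G Ω := ⟨h.trans⟩

/-- Pull back along a surjective homomorphism. -/
theorem TT.comp {G' : Type*} [Group G'] (h : TT G Ω) (φ : G' →* G) (hφ : Function.Surjective φ) :
    @TT G' Ω _ (MulAction.compHom Ω φ) := by
  letI := MulAction.compHom Ω φ
  refine ⟨h.nt, fun a b c d h1 h2 => ?_⟩
  obtain ⟨g, h3⟩ := h.move a b c d h1 h2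
  obtain ⟨g', rfl⟩ := hφ g
  exact ⟨g', h3⟩

theorem faithful_comp [FaithfulSMul G Ω] {G' : Type*} [Group G'] (φ : G' →* G) (hφ : Function.Injective φ) :
    @FaithfulSMul G' Ω (MulAction.compHom Ω φ).toSMul := by
  letI := MulAction.compHom Ω φ
  exact ⟨fun {a b} h => hφ (eq_of_smul_eq_smul (α := Ω) h)⟩

theorem TT.exists_ne_smul (h : TT G Ω) (a : Ω) : ∃ g : G, g • a ≠ a := by
  have := h.nt
  obtain ⟨b, hb⟩ := exists_ne a
  obtain ⟨g, hg⟩ := h.trans a b
  exact ⟨g, hg ▸ hb⟩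

variable [Finite Ω]

theorem TT.two_le (h : TT G Ω) : 2 ≤ Nat.card Ω := by
  have := h.nt
  exact Finite.one_lt_card

/-- The basic count: for an equivariant family of group elements, `n - 1` divides the number of members moving a
given point. -/
theorem TT.count (h : TT G Ω) {A : Type*} [Finite A] [MulAction G A] (t : A → G)
    (ht : ∀ (g : G) a, t (g • a) = g * t a * g⁻¹) (x : Ω) :
    Nat.card Ω - 1 ∣ Nat.card {a : A // t a • x ≠ x} := by
  classical
  have := Fintype.ofFinite Ω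
  have := Fintype.ofFinite A
  have := h.nt
  obtain ⟨y, hy⟩ := exists_ne x
  have key : ∀ z, z ≠ x → (Finset.univ.filter fun a => t a • x = z).card =
      (Finset.univ.filter fun a => t a • x = y).card := by
    intro z hz
    obtain ⟨g, h1, h2⟩ := h.move x z x y hz.symm hy.symm
    have h3 : g⁻¹ • x = x := by rw [inv_smul_eq_iff, h1]
    refine Finset.card_bij' (fun a _ => g • a) (fun a _ => g⁻¹ • a) (fun a ha => ?_) (fun a ha => ?_)
      (fun a _ => by simp) (fun a _ => by simp)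
    · simp only [Finset.mem_filter, Finset.mem_univ, true_and] at ha ⊢
      rw [ht, mul_smul, mul_smul, h3, ha, h2]
    · simp only [Finset.mem_filter, Finset.mem_univ, true_and] at ha ⊢
      rw [ht, mul_smul, mul_smul, inv_inv, h1, ha, inv_smul_eq_iff, h2]
  rw [Nat.card_eq_fintype_card, Nat.card_eq_fintype_card, Fintype.card_subtype,
    Finset.card_eq_sum_card_fiberwise (f := fun a => t a • x) (t := Finset.univ.erase x)
      (fun a ha => by simpa using ha)]
  rw [Finset.sum_congr rfl (g := fun _ => (Finset.univ.filter fun a => t a • x = y).card)]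
  · rw [Finset.sum_const, Finset.card_erase_of_mem (Finset.mem_univ _), Finset.card_univ, smul_eq_mul]
    exact dvd_mul_right _ _
  · intro z hz
    rw [← key z (Finset.ne_of_mem_erase hz), Finset.filter_filter]
    congr 1
    ext a
    simp only [Finset.mem_filter, Finset.mem_univ, true_and, and_iff_right_iff_imp]
    rintro rfl
    exact Finset.ne_of_mem_erase hz

/-- If no member fixes the point, `n - 1` divides the size of the family. -/
theorem TT.count_all (h : TT G Ω) {A : Type*} [Finite A] [MulAction G A] (t : A → G)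
    (ht : ∀ (g : G) a, t (g • a) = g * t a * g⁻¹) (x : Ω) (hx : ∀ a, t a • x ≠ x) :
    Nat.card Ω - 1 ∣ Nat.card A := by
  have := h.count t ht x
  rwa [Nat.card_congr (Equiv.subtypeUnivEquiv hx)] at this

theorem TT.card_orbits_offD (h : TT G Ω) : Nat.card (orbitRel.Quotient G (H4.offD G Ω)) = 1 := by
  have := h.nt
  obtain ⟨a, b, hab⟩ := exists_pair_ne Ω
  have : Nonempty (H4.offD G Ω) := ⟨⟨(a, b), hab⟩⟩
  have : IsPretransitive G (H4.offD G Ω) := ⟨fun p p' => by
    obtain ⟨g, h1, h2⟩ := h.move p.1.1 p.1.2 p'.1.1 p'.1.2 p.2 p'.2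
    exact ⟨g, Subtype.ext (Prod.ext h1 h2)⟩⟩
  exact H4.card_orbits_one _

theorem TT.card_mul_dvd [Finite G] (h : TT G Ω) : Nat.card Ω * (Nat.card Ω - 1) ∣ Nat.card G := by
  have h1 := H4.card_dvd_of_orbits_one _ h.card_orbits_offD
  have h2 := H4.card_offDiag Ω
  have h3 : Nat.card (H4.offD G Ω) = Nat.card {p : Ω × Ω // p.1 ≠ p.2} := rfl
  rw [Nat.mul_sub_one, ← h2, Nat.add_sub_cancel, ← h3]
  exact h1

open Cfsg.Agent.H1 in
/-- The nontrivial constituent of the permutation character. -/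
theorem TT.irr [Fintype G] (h : TT G Ω) : IsIrrCharacter G (H4.pch G Ω - fun _ => 1) ∧
    classInner (H4.pch G Ω - fun _ => 1) (fun _ => 1) = 0 := by
  have := h.pre
  have := h.nt
  have hπ : IsCharacter G (H4.pch G Ω) := isCharacter_fixedBy Ω
  have h1 : classInner (H4.pch G Ω) (fun _ => 1) = 1 := by
    rw [H4.inner_pch_one, H4.card_orbits_one]; simp
  have h3 : classInner (H4.pch G (H4.offD G Ω)) (fun _ => 1) = 1 := by
    rw [H4.inner_pch_one, h.card_orbits_offD]; simp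
  have e : H4.pch G (H4.offD G Ω) = H4.pch G Ω * H4.pch G Ω - H4.pch G Ω := by
    funext g
    simp only [H4.pch, Pi.sub_apply, Pi.mul_apply]
    rw [eq_sub_iff_add_eq]
    exact_mod_cast H4.card_fixed_offD Ω g
  have h4 : classInner (H4.pch G Ω * H4.pch G Ω) (fun _ => 1) = classInner (H4.pch G Ω) (H4.pch G Ω) := by
    simp [classInner, H4.pch]
  have h2 : classInner (H4.pch G Ω) (H4.pch G Ω) = 2 := by
    rw [e, classInner_sub_left, h4, h1, sub_eq_iff_eq_add] at h3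
    rw [h3]; norm_num
  refine ⟨(IsCharacter.isIrr_sub_of_norm_two hπ h2 isIrrCharacter_one (by rw [h1]; simp)).1, ?_⟩
  rw [classInner_sub_left, h1, IsIrrCharacter.classInner_self isIrrCharacter_one, sub_self]

/-- The number of orbits on pairs is the inner product of the permutation characters. -/
theorem inner_pch [Fintype G] (X : Type*) [Finite X] [MulAction G X] :
    classInner (H4.pch G X) (H4.pch G Ω) = Nat.card (orbitRel.Quotient G (X × Ω)) := by
  rw [← H4.inner_pch_one]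
  simp only [classInner, H4.pch, map_one, mul_one, map_natCast]
  congr 1
  refine Finset.sum_congr rfl fun g _ => ?_
  rw [← Nat.cast_mul, ← Nat.card_prod]
  congr 1
  exact Nat.card_congr ⟨fun p => ⟨(p.1.1, p.2.1), Prod.ext p.1.2 p.2.2⟩,
    fun p => (⟨p.1.1, congrArg Prod.fst p.2⟩, ⟨p.1.2, congrArg Prod.snd p.2⟩), fun _ => rfl, fun _ => rfl⟩

open Cfsg.Agent.H1 in
/-- Two 2-transitive actions: either a point stabilizer of one is transitive on the other, or the permutation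
characters (in particular the degrees) agree. -/
theorem TT.compare [Finite G] (h : TT G Ω) {X : Type*} [Finite X] [MulAction G X] (hX : TT G X) :
    (∀ (ω : Ω) (x y : X), ∃ g : G, g • ω = ω ∧ g • x = y) ∨
      (Nat.card Ω = Nat.card X ∧ ∀ g : G, Nat.card (fixedBy Ω g) = Nat.card (fixedBy X g)) := by
  have := Fintype.ofFinite G
  by_cases hc : (H4.pch G X - fun _ => 1) = H4.pch G Ω - fun _ => 1
  · have h0 : ∀ g : G, Nat.card (fixedBy Ω g) = Nat.card (fixedBy X g) := fun g => by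
      have := congrFun hc g
      simp only [H4.pch, Pi.sub_apply, sub_left_inj, Nat.cast_inj] at this
      exact this.symm
    exact .inr ⟨by simpa using h0 1, h0⟩
  left
  have h1 := IsIrrCharacter.classInner_of_ne hX.irr.1 h.irr.1 hc
  have h2 : classInner (fun _ => 1) (H4.pch G Ω - fun _ => 1) = 0 := by
    rw [← classInner_conj, h.irr.2, map_zero]
  have h3 : classInner (H4.pch G X) (H4.pch G Ω) = 1 := by
    have e1 : H4.pch G X = (H4.pch G X - fun _ => 1) + fun _ => 1 := by ring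
    have e2 : H4.pch G Ω = (H4.pch G Ω - fun _ => 1) + fun _ => 1 := by ring
    rw [e1, e2, classInner_add_left, classInner_add_right, classInner_add_right, h1, h2, hX.irr.2,
      IsIrrCharacter.classInner_self isIrrCharacter_one]
    simp
  rw [inner_pch] at h3
  have h4 : Nat.card (orbitRel.Quotient G (X × Ω)) = 1 := by exact_mod_cast h3
  obtain ⟨h5, -⟩ := Nat.card_eq_one_iff_unique.mp h4
  intro ω x y
  have : (Quotient.mk _ (y, ω) : orbitRel.Quotient G (X × Ω)) = Quotient.mk _ (x, ω) := Subsingleton.elim _ _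
  obtain ⟨g, hg⟩ := mem_orbit_iff.mp (Quotient.exact this)
  exact ⟨g, congrArg Prod.snd hg, congrArg Prod.fst hg⟩

end

end Cfsg.Agent.H7
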