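import Cfsg.Agent.H7.Th2
import Cfsg.Agent.H7.All

/-! The exceptional Chevalley groups over fields with at least nine elements are squares of conjugacy classes. -/

set_option autoImplicit false
set_option synthInstance.maxSize 4000

namespace Cfsg.Agent.H7

open Cfsg.Lie Cfsg.Agent.H8

theorem leviG2 : LeviA chevG2 (k := 0) ![![0, 7], ![4, 0]]
    ![![1, 1], ![1, 1]]
    (fun i => [1, 2].getD i 0) (fun i => [2, 3].getD i 0)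
    (wordW chevG2 (fl chevG2 [1, 0, 1, 0, 1])) ![0] := by
  unfold LeviA; decide +kernel

theorem leviF4 : LeviA chevF4 (k := 0) ![![0, 27], ![20, 0]]
    ![![1, 1], ![1, 1]]
    (fun i => [5, 9, 13, 7].getD i 0) (fun i => [3, 6, 8, 4].getD i 0)
    (wordW chevF4 (fl chevF4 [3, 2, 1, 2, 0, 1, 2, 3, 2, 1, 2, 0, 1, 2, 3, 2, 1, 2, 0, 1, 2, 1, 0])) ![0] := by
  unfold LeviA; decide +kernel

theorem leviE6 : LeviA chevE6 (k := 2) ![![0, 42, 43, 44], ![29, 0, 39, 40], ![28, 32, 0, 37], ![27, 31, 34, 0]]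
    ![![1, 1, -1, 1], ![1, 1, 1, -1], ![-1, 1, 1, 1], ![1, -1, 1, 1]]
    (fun i => [3, 4, 5, 7, 5, 3].getD i 0) (fun i => [3, 4, 6, 8, 6, 4].getD i 0)
    (wordW chevE6 (fl chevE6 [0, 2, 3, 4, 5, 1, 3, 4, 2, 3, 0, 2, 1, 3, 4, 5, 4, 3, 0, 2, 1, 3, 4, 0, 2, 1, 3, 2, 1, 0])) ![0, 1, 2] := by
  unfold LeviA; decide +kernel

theorem leviE7 : LeviA chevE7 (k := 2) ![![0, 73, 74, 75], ![52, 0, 69, 70], ![51, 56, 0, 66], ![50, 55, 59, 0]]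
    ![![1, 1, -1, 1], ![1, 1, 1, -1], ![-1, 1, 1, 1], ![1, -1, 1, 1]]
    (fun i => [7, 10, 13, 19, 15, 11, 6].getD i 0) (fun i => [3, 4, 6, 8, 6, 4, 2].getD i 0)
    (wordW chevE7 (fl chevE7 [6, 5, 4, 3, 2, 1, 3, 4, 5, 6, 0, 2, 3, 4, 5, 1, 3, 4, 2, 3, 0, 2, 1, 3, 4, 5, 6, 0, 2, 3, 4, 5, 1, 3, 4, 2, 3, 0, 2, 1, 3, 4, 5, 4, 3, 0, 2, 1, 3, 4, 0, 2, 1, 3, 2, 1, 0])) ![2, 1, 0] := by
  unfold LeviA; decide +kernel

theorem leviE8 : LeviA chevE8 (k := 4) ![![0, 135, 136, 137, 138, 139], ![104, 0, 130, 131, 132, 133], ![103, 109, 0, 126, 127, 128], ![102, 108, 113, 0, 123, 124], ![101, 107, 112, 116, 0, 121], ![100, 106, 111, 115, 118, 0]]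
    ![![1, 1, -1, 1, -1, 1], ![1, 1, 1, -1, 1, -1], ![-1, 1, 1, 1, -1, 1], ![1, -1, 1, 1, 1, -1], ![-1, 1, -1, 1, 1, 1], ![1, -1, 1, -1, 1, 1]]
    (fun i => [11, 16, 21, 31, 25, 19, 13, 7].getD i 0) (fun i => [7, 10, 14, 20, 16, 12, 8, 4].getD i 0)
    (wordW chevE8 (fl chevE8 [7, 6, 5, 4, 3, 2, 1, 3, 4, 5, 6, 0, 2, 3, 4, 5, 1, 3, 4, 2, 3, 0, 2, 1, 3, 4, 5, 6, 7, 6, 5, 4, 3, 2, 1, 3, 4, 5, 6, 0, 2, 3, 4, 5, 1, 3, 4, 2, 3, 0, 2, 1, 3, 4, 5, 6, 7, 1, 3, 4, 5, 6, 0, 2, 3, 4, 5, 1, 3, 4, 2, 3, 0, 2, 1, 3, 4, 5, 6, 5, 1, 3, 4, 2, 3, 0, 2, 1, 3, 4, 5, 4, 3, 0, 2, 1, 3, 4, 0, 2, 1, 3, 2, 1, 0])) ![4, 3, 2, 1, 0] := by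
  unfold LeviA; decide +kernel

variable {F : Type*} [Field F] [Fintype F] (hF : 9 ≤ Fintype.card F)
include hF

theorem thmG2 : Thm (chevG2.group F) := leviG2.thm hF (wordW_mem _) H7.isChev_xg H7.GG_xg
theorem thmF4 : Thm (chevF4.group F) := leviF4.thm hF (wordW_mem _) H7.isChev_xg H7.GG_xg
theorem thmE6 : Thm (chevE6.group F) := leviE6.thm hF (wordW_mem _) H7.isChev_xg H7.GG_xg
theorem thmE7 : Thm (chevE7.group F) := leviE7.thm hF (wordW_mem _) H7.isChev_xg H7.GG_xg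
theorem thmE8 : Thm (chevE8.group F) := leviE8.thm hF (wordW_mem _) H7.isChev_xg H7.GG_xg

end Cfsg.Agent.H7
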